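import Cfsg.Agent.Coset.He.Inv2B
import Cfsg.Agent.Coset.He.Schur.Data
import Cfsg.Prelude.Def_KGroupFacts

/-!
Involutions in a central extension of `Cfsg.Spor.He`: a lift of the involution `g` commutes with
the lifts of its centraliser, and so do its conjugates.
-/

set_option autoImplicit false
set_option maxRecDepth 100000
set_option Elab.async false

namespace CfsgLib.Coset.He.Schur

open CfsgLib.Coset Inv2B
open scoped commutatorElement

/-- Two words agree on the base. -/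
noncomputable def sameW (v w : List Nat) : Bool :=
  cond (checkLetters 7 [v]) (cond (checkLetters 7 [w])
    (allList (fun b => Nat.beq (follow (tget Top.Tb) b v) (follow (tget Top.Tb) b w)) [5, 6, 15, 42])
    false) false

theorem sameW_eq {v w : List Nat} (h : sameW v w = true) : ev Lg v = ev Lg w := by
  obtain ⟨h1, h2⟩ := cond_false_eq_true.mp h
  obtain ⟨h2, h3⟩ := cond_false_eq_true.mp h2
  exact matches_ρ.ev_eq_of_base base_bot h1 h2 h3

theorem ev_rev (w : List Nat) : ev Lg w.reverse = (ev Lg w)⁻¹ := by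
  induction w with
  | nil => simp
  | cons k w ih =>
    rw [List.reverse_cons, ev_append, ih, ev_cons, ev_cons, ev_nil, mul_one, mul_inv_rev,
      inv_eq_of_mul_eq_one_right (sq_all k)]

/-- A conjugate of `g`, as a word. -/
def cw (h : List Nat) : List Nat := h ++ [6] ++ h.reverse

theorem ev_cw (h : List Nat) : ev Lg (cw h) = ev Lg h * Z * (ev Lg h)⁻¹ := by
  rw [cw, ev_append, ev_append, ev_rev]

/-- A product of commutators, as a word. -/
def commW (l : List (List Nat × List Nat)) : List Nat :=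
  l.flatMap fun p => flatC p.1 ++ flatC p.2 ++ (flatC p.1).reverse ++ (flatC p.2).reverse

theorem perf_check : allBelow 3 4 (fun k =>
    sameW (Cg.getD k []) (commW (perf.getD k []))) = true := by decide +kernel

theorem q_check : sameW [6] (commW [(q1, q2)]) = true ∧ sameW (flatC q1 ++ flatC q1) [] = true := by
  constructor <;> decide +kernel

section

variable {Γ : Type} [Group Γ] {σ : Γ →* Cfsg.Spor.He}

/-- A subgroup containing all commutators of lifts of the centraliser covers it. -/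
theorem exists_mem_lift (hs : Cfsg.IsStemExtension σ) (S : Subgroup Γ)
    (hS : ∀ a b, σ a ∈ Cz → σ b ∈ Cz → ⁅a, b⁆ ∈ S) {x : Cfsg.Spor.He} (hx : x ∈ Cz) :
    ∃ c ∈ S, σ c = x := by
  have hw : ∀ w, ∃ a, σ a = ev Lg (flatC w) ∧ σ a ∈ Cz := fun w => by
    obtain ⟨a, ha⟩ := hs.1 (ev Lg (flatC w))
    exact ⟨a, ha, by rw [ha, ← coe_ev]; exact (ev Lc w).2⟩
  have hcomm : ∀ l : List (List Nat × List Nat), ev Lg (commW l) ∈ S.map σ := by
    intro l
    induction l with
    | nil => simp [commW]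
    | cons p l ih =>
      rw [show commW (p :: l) = flatC p.1 ++ flatC p.2 ++ (flatC p.1).reverse ++
        (flatC p.2).reverse ++ commW l from rfl, ev_append]
      refine mul_mem ?_ ih
      obtain ⟨a, ha, haC⟩ := hw p.1
      obtain ⟨b, hb, hbC⟩ := hw p.2
      refine ⟨⁅a, b⁆, hS a b haC hbC, ?_⟩
      rw [map_commutatorElement, ha, hb, commutatorElement_def, ev_append, ev_append, ev_append,
        ev_rev, ev_rev]
  have hgen : ∀ k, ev Lg (Cg.getD k []) ∈ S.map σ := by
    intro k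
    rcases lt_or_ge k 4 with hk | hk
    · rw [sameW_eq (of_allBelow perf_check k hk)]; exact hcomm _
    · rw [List.getD_eq_default _ _ (by simp [Cg]; omega), ev_nil]; exact one_mem _
  have hall : ∀ y : Cz, (y : Cfsg.Spor.He) ∈ S.map σ := by
    intro y
    have hy : y ∈ Subgroup.closure {z | z ∈ Lc} := card_Cz.2 ▸ Subgroup.mem_top y
    induction hy using Subgroup.closure_induction with
    | mem z hz =>
      obtain ⟨k, hk, rfl⟩ := List.getElem_of_mem hz
      have := hgen k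
      rw [← coe_fl, fl, List.getD_eq_getElem _ _ hk] at this
      exact this
    | one => exact one_mem _
    | mul a b _ _ ha hb => exact mul_mem ha hb
    | inv a _ ha => exact inv_mem ha
  obtain ⟨c, hc, he⟩ := hall ⟨x, hx⟩
  exact ⟨c, hc, he⟩

theorem conj_central {x a : Γ}
    (h : σ a * σ x = σ x * σ a) : ∃ z ∈ σ.ker, a * x = z * x * a := by
  refine ⟨a * x * a⁻¹ * x⁻¹, ?_, by group⟩
  rw [MonoidHom.mem_ker, map_mul, map_mul, map_mul, map_inv, map_inv, h]
  group

theorem commutator_fix {x a b z w : Γ} (hz : ∀ y : Γ, y * z = z * y) (hw : ∀ y : Γ, y * w = w * y)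
    (ea : a * x = z * x * a) (eb : b * x = w * x * b) : ⁅a, b⁆ * x = x * ⁅a, b⁆ := by
  have e1 : (a * b) * x = (z * w) * x * (a * b) := by
    calc (a * b) * x = a * (b * x) := mul_assoc _ _ _
      _ = (a * w) * x * b := by rw [eb]; group
      _ = w * (a * x) * b := by rw [hw a]; group
      _ = (w * z) * x * (a * b) := by rw [ea]; group
      _ = (z * w) * x * (a * b) := by rw [← hw z]
  have e2 : (b * a) * x = (z * w) * x * (b * a) := by
    calc (b * a) * x = b * (a * x) := mul_assoc _ _ _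
      _ = (b * z) * x * a := by rw [ea]; group
      _ = z * (b * x) * a := by rw [hz b]; group
      _ = (z * w) * x * (b * a) := by rw [eb]; group
  have hk : ∀ y : Γ, (z * w)⁻¹ * y = y * (z * w)⁻¹ := fun y =>
    ((show Commute (z * w) y from by
      show z * w * y = y * (z * w)
      rw [mul_assoc, ← hw y, ← mul_assoc, ← hz y, mul_assoc]).inv_left).eq
  have e3 : x * (b * a)⁻¹ = (b * a)⁻¹ * (z * w) * x := by
    calc x * (b * a)⁻¹ = (b * a)⁻¹ * ((b * a) * x) * (b * a)⁻¹ := by group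
      _ = (b * a)⁻¹ * (z * w) * x := by rw [e2]; group
  rw [commutatorElement_def]
  calc a * b * a⁻¹ * b⁻¹ * x = (a * b) * ((z * w)⁻¹ * ((b * a)⁻¹ * (z * w) * x)) := by
        rw [← mul_assoc (z * w)⁻¹, ← mul_assoc (z * w)⁻¹, hk ((b * a)⁻¹)]; group
    _ = (a * b) * ((z * w)⁻¹ * x * (b * a)⁻¹) := by rw [← e3]; group
    _ = (z * w)⁻¹ * ((a * b) * x) * (b * a)⁻¹ := by
        rw [← mul_assoc, ← mul_assoc, ← hk (a * b)]; group
    _ = x * (a * b * a⁻¹ * b⁻¹) := by rw [e1]; group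

/-- A lift of `g` commutes with every lift of its centraliser. -/
theorem lift_fixes (hs : Cfsg.IsStemExtension σ) {x : Γ} (hx : σ x = Z) {g : Γ}
    (hg : σ g ∈ Cz) : g * x = x * g := by
  obtain ⟨c, hc, he⟩ := exists_mem_lift hs (Subgroup.centralizer {x}) (fun a b ha hb => by
    rw [Subgroup.mem_centralizer_singleton_iff]
    rw [Subgroup.mem_centralizer_singleton_iff, ← hx] at ha hb
    obtain ⟨z, hz, ea⟩ := conj_central ha
    obtain ⟨w, hw, eb⟩ := conj_central hb
    exact commutator_fix (Subgroup.mem_center_iff.mp (hs.2.1 hz))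
      (Subgroup.mem_center_iff.mp (hs.2.1 hw)) ea eb) hg
  have hk : c⁻¹ * g ∈ Subgroup.center Γ := hs.2.1 (by
    rw [MonoidHom.mem_ker, map_mul, map_inv, he, inv_mul_cancel])
  have h1 := Subgroup.mem_center_iff.mp hk x
  calc g * x = c * ((c⁻¹ * g) * x) := by group
    _ = c * (x * (c⁻¹ * g)) := by rw [h1]
    _ = (c * x) * (c⁻¹ * g) := by group
    _ = x * g := by rw [Subgroup.mem_centralizer_singleton_iff.mp hc]; group

/-- `g` has an involutive lift. -/
theorem exists_invol (hs : Cfsg.IsStemExtension σ) : ∃ x : Γ, σ x = Z ∧ x * x = 1 := by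
  obtain ⟨a, ha⟩ := hs.1 (ev Lg (flatC q1))
  obtain ⟨b, hb⟩ := hs.1 (ev Lg (flatC q2))
  have hz : σ ⁅a, b⁆ = Z := by
    rw [map_commutatorElement, ha, hb, commutatorElement_def, Z, sameW_eq q_check.1]
    simp [commW, ev_append, ev_rev, mul_assoc]
  refine ⟨⁅a, b⁆, hz, ?_⟩
  have hcom : a * ⁅a, b⁆ = ⁅a, b⁆ * a := lift_fixes hs hz (by rw [ha, ← coe_ev]; exact (ev Lc q1).2)
  have hsq : a * a ∈ Subgroup.center Γ := hs.2.1 (by
    rw [MonoidHom.mem_ker, map_mul, ha, ← ev_append, sameW_eq q_check.2, ev_nil])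
  calc ⁅a, b⁆ * ⁅a, b⁆ = a * ⁅a, b⁆ * a⁻¹ * ⁅a, b⁆ := by rw [hcom]; group
    _ = (a * a) * b * (a * a)⁻¹ * b⁻¹ := by rw [commutatorElement_def]; group
    _ = 1 := by rw [← Subgroup.mem_center_iff.mp hsq b]; group

/-- The conjugates of a chosen lift of `g`. -/
def Hat (G X : Γ) : Prop := ∃ t : Γ, X = t * G * t⁻¹

variable {G : Γ}

theorem Hat.conj {X : Γ} (hX : Hat G X) (s : Γ) : Hat G (s * X * s⁻¹) := by
  obtain ⟨t, rfl⟩ := hX
  exact ⟨s * t, by group⟩

theorem Hat.unique (hs : Cfsg.IsStemExtension σ) (hG : σ G = Z) {X Y : Γ} (hX : Hat G X)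
    (hY : Hat G Y) (h : σ X = σ Y) : X = Y := by
  obtain ⟨t, rfl⟩ := hX
  obtain ⟨u, rfl⟩ := hY
  have hc : σ (u⁻¹ * t) ∈ Cz := by
    rw [Subgroup.mem_centralizer_singleton_iff, ← hG]
    simp only [map_mul, map_inv] at h ⊢
    calc (σ u)⁻¹ * σ t * σ G = (σ u)⁻¹ * (σ t * σ G * (σ t)⁻¹) * σ t := by group
      _ = σ G * ((σ u)⁻¹ * σ t) := by rw [h]; group
  have := lift_fixes hs hG hc
  calc t * G * t⁻¹ = u * ((u⁻¹ * t) * G) * t⁻¹ := by group
    _ = u * G * u⁻¹ := by rw [this]; group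

theorem Hat.comm (hs : Cfsg.IsStemExtension σ) (hG : σ G = Z) {X Y : Γ} (hX : Hat G X)
    (h : σ Y * σ X = σ X * σ Y) : Y * X = X * Y := by
  have he : σ (Y * X * Y⁻¹) = σ X := by rw [map_mul, map_mul, map_inv, h]; group
  have := (hX.conj Y).unique hs hG hX he
  calc Y * X = Y * X * Y⁻¹ * Y := by group
    _ = X * Y := by rw [this]

theorem Hat.sq (hG2 : G * G = 1) {X : Γ} (hX : Hat G X) : X * X = 1 := by
  obtain ⟨t, rfl⟩ := hX
  calc t * G * t⁻¹ * (t * G * t⁻¹) = t * (G * G) * t⁻¹ := by group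
    _ = 1 := by rw [hG2]; group

theorem Hat.inv_eq (hG2 : G * G = 1) {X : Γ} (hX : Hat G X) : X⁻¹ = X :=
  inv_eq_of_mul_eq_one_right (hX.sq hG2)

theorem exists_hat (hs : Cfsg.IsStemExtension σ) (hG : σ G = Z) (h : List Nat) :
    ∃ X, Hat G X ∧ σ X = ev Lg (cw h) := by
  obtain ⟨t, ht⟩ := hs.1 (ev Lg h)
  exact ⟨t * G * t⁻¹, ⟨t, rfl⟩, by rw [map_mul, map_mul, map_inv, ht, hG, ev_cw]⟩

/-- The braid relation holds between conjugate lifts. -/
theorem Hat.braid (hs : Cfsg.IsStemExtension σ) (hG : σ G = Z) (hG2 : G * G = 1) {X Y : Γ}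
    (hX : Hat G X) (hY : Hat G Y) (h : σ (X * Y * (X * Y) * (X * Y)) = 1) :
    X * Y * (X * Y) * (X * Y) = 1 := by
  have ex := hX.sq hG2
  have ey := hY.sq hG2
  have h1 : Hat G (X * Y * X) := by
    have := hY.conj X; rwa [hX.inv_eq hG2] at this
  have h2 : Hat G (Y * X * Y) := by
    have := hX.conj Y; rwa [hY.inv_eq hG2] at this
  have he : X * Y * X = Y * X * Y := h1.unique hs hG h2 (by
    have h' : σ (X * Y * X) * σ (Y * X * Y) = 1 := by rw [← map_mul]; simpa [mul_assoc] using h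
    have hyxy : σ (Y * X * Y) * σ (Y * X * Y) = 1 := by rw [← map_mul, h2.sq hG2, map_one]
    calc σ (X * Y * X) = σ (X * Y * X) * (σ (Y * X * Y) * σ (Y * X * Y)) := by rw [hyxy, mul_one]
      _ = σ (Y * X * Y) := by rw [← mul_assoc, h', one_mul])
  calc X * Y * (X * Y) * (X * Y) = (X * Y * X) * (Y * X * Y) := by group
    _ = 1 := by rw [he, h2.sq hG2]

/-- An involutive lift from a decomposition as two commuting conjugates of `g`. -/
theorem exists_dec (hs : Cfsg.IsStemExtension σ) (hG : σ G = Z) (hG2 : G * G = 1)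
    {h1 h2 t : List Nat} (hc : sameW (cw h1 ++ cw h2) (cw h2 ++ cw h1) = true)
    (ht : sameW (cw h1 ++ cw h2) t = true) :
    ∃ X Y, Hat G X ∧ Hat G Y ∧ σ X = ev Lg (cw h1) ∧ σ Y = ev Lg (cw h2) ∧ σ (X * Y) = ev Lg t ∧
      X * Y * (X * Y) = 1 := by
  obtain ⟨X, hX, eX⟩ := exists_hat hs hG h1
  obtain ⟨Y, hY, eY⟩ := exists_hat hs hG h2
  refine ⟨X, Y, hX, hY, eX, eY, by rw [map_mul, eX, eY, ← ev_append, sameW_eq ht], ?_⟩
  have hcom : Y * X = X * Y := hX.comm hs hG (by
    rw [eX, eY, ← ev_append, ← ev_append, sameW_eq hc])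
  calc X * Y * (X * Y) = X * (Y * X) * Y := by group
    _ = (X * X) * (Y * Y) := by rw [hcom]; group
    _ = 1 := by rw [hX.sq hG2, hY.sq hG2, one_mul]

end

end CfsgLib.Coset.He.Schur
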