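import Cfsg.Agent.Coset.He.Schur.Lift

/-!
Lifts of the generators of `Cfsg.Spor.He` to a stem extension with kernel of prime order that
satisfy every relator but the last.
-/

set_option autoImplicit false
set_option maxRecDepth 100000
set_option Elab.async false

namespace CfsgLib.Coset.He.Schur

open CfsgLib.Coset Inv2B

/-- All relators but the last. -/
def rels' : List (List Nat) := rels.dropLast

theorem rels'_eq : rels' = [[0, 0], [0, 1, 0, 1, 0, 1, 0, 1], [0, 2, 0, 2], [0, 3, 0, 3],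
    [0, 4, 0, 4], [0, 5, 0, 5], [0, 6, 0, 6], [1, 1], [1, 2, 1, 2, 1, 2], [1, 3, 1, 3],
    [1, 4, 1, 4], [1, 5, 1, 5], [1, 6, 1, 6], [2, 2],
    [2, 3, 2, 3, 2, 3, 2, 3, 2, 3, 2, 3, 2, 3, 2, 3, 2, 3, 2, 3], [2, 4, 2, 4], [2, 5, 2, 5],
    [2, 6, 2, 6], [3, 3], [3, 4, 3, 4, 3, 4], [3, 5, 3, 5, 3, 5], [3, 6, 3, 6, 3, 6], [4, 4],
    [4, 5, 4, 5], [4, 6, 4, 6], [5, 5], [5, 6, 5, 6, 5, 6, 5, 6], [6, 6], [4, 6, 5, 6, 5],
    [4, 2, 1, 0, 2, 1, 0, 2, 1, 0], [0, 3, 2, 3, 2, 3, 2, 3, 2, 3, 2]] := by decide +kernel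

theorem conj_checks : sameW (cw hD) [3] = true ∧ sameW (cw hE) [4] = true ∧
    sameW (cw hF) [5] = true ∧ sameW [6, 5, 6, 5] [5, 6, 5, 6] = true ∧
    sameW [6, 5, 6, 5] [4] = true := by
  refine ⟨?_, ?_, ?_, ?_, ?_⟩ <;> decide +kernel

theorem dec_checks :
    (sameW (cw Bd1 ++ cw Bd2) (cw Bd2 ++ cw Bd1) = true ∧ sameW (cw Bd1 ++ cw Bd2) [1] = true) ∧
    (sameW (cw Cd1 ++ cw Cd2) (cw Cd2 ++ cw Cd1) = true ∧ sameW (cw Cd1 ++ cw Cd2) [2] = true) ∧
    (sameW (cw ABd1 ++ cw ABd2) (cw ABd2 ++ cw ABd1) = true ∧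
      sameW (cw ABd1 ++ cw ABd2) [0, 1, 0, 1] = true) ∧
    (sameW (cw Cd1 ++ [0]) ([0] ++ cw Cd1) = true ∧ sameW (cw Cd2 ++ [0]) ([0] ++ cw Cd2) = true) := by
  refine ⟨⟨?_, ?_⟩, ⟨?_, ?_⟩, ⟨?_, ?_⟩, ⟨?_, ?_⟩⟩ <;> decide +kernel

section

variable {Γ : Type} [Group Γ] {σ : Γ →* Cfsg.Spor.He}

theorem comm_words {v w : List Nat} (h : sameW (v ++ w) (w ++ v) = true) :
    ev Lg v * ev Lg w = ev Lg w * ev Lg v := by
  rw [← ev_append, ← ev_append, sameW_eq h]

theorem ev_single (l : Nat) : ev Lg [l] = fl Lg l := by simp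

/-- In a kernel of prime order an element of order dividing four has order at most two. -/
theorem sq_of_four {p : ℕ} (hp : p.Prime) (hcard : Nat.card σ.ker = p) {z : Γ} (hz : z ∈ σ.ker)
    (h : z ^ 4 = 1) : z * z = 1 := by
  have h1 : orderOf z ∣ 4 := orderOf_dvd_of_pow_eq_one h
  have h2 : orderOf z ∣ p := hcard ▸ Subgroup.orderOf_dvd_natCard σ.ker hz
  rcases (Nat.dvd_prime hp).mp h2 with h3 | h3
  · rw [orderOf_eq_one_iff.mp h3, one_mul]
  · have h4 : p ∣ 2 ^ 2 := by rw [← h3]; simpa using h1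
    have h5 : p = 2 := (Nat.prime_dvd_prime_iff_eq hp Nat.prime_two).mp (hp.dvd_of_dvd_pow h4)
    rw [← pow_two, ← h5, ← h3, pow_orderOf_eq_one]

/-- The relators hold for a tuple with these properties. -/
theorem rels'_hold {A B C D E F G : Γ} (a2 : A * A = 1) (b2 : B * B = 1) (c2 : C * C = 1)
    (d2 : D * D = 1) (e2 : E * E = 1) (f2 : F * F = 1) (g2 : G * G = 1)
    (ab : A * B * (A * B) * (A * B) * (A * B) = 1) (ac : C * A = A * C)
    (hat : ∀ X ∈ [D, E, F, G], ∀ Y ∈ [A, B], Y * X = X * Y)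
    (hat' : ∀ X ∈ [E, F, G], C * X = X * C)
    (ef : E * F = F * E) (eg : E * G = G * E)
    (bc : B * C * (B * C) * (B * C) = 1) (de : D * E * (D * E) * (D * E) = 1)
    (df : D * F * (D * F) * (D * F) = 1) (dg : D * G * (D * G) * (D * G) = 1)
    (egf : E * (G * (F * (G * F))) = 1)
    (abc : E * (C * (B * (A * (C * (B * (A * (C * (B * A)))))))) = 1)
    (acd : A * (D * C * (D * C) * (D * C) * (D * C) * (D * C)) = 1) :
    ∀ w ∈ rels', ev [A, B, C, D, E, F, G] w = 1 := by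
  have comm : ∀ {X Y : Γ}, X * X = 1 → Y * Y = 1 → X * Y = Y * X →
      X * (Y * (X * Y)) = 1 := by
    intro X Y hx hy h
    calc X * (Y * (X * Y)) = X * (Y * (Y * X)) := by rw [h]
      _ = 1 := by rw [← mul_assoc Y, hy, one_mul, hx]
  simp only [List.mem_cons, List.not_mem_nil, or_false, forall_eq_or_imp, forall_eq] at hat hat'
  obtain ⟨⟨da, db⟩, ⟨ea, eb⟩, ⟨fa, fb⟩, ⟨ga, gb⟩⟩ := hat
  obtain ⟨ec, fc, gc⟩ := hat'
  have fg4 : F * (G * (F * (G * (F * (G * (F * G)))))) = 1 := by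
    have h1 : G * (F * (G * F)) = E := by
      rw [← inv_eq_of_mul_eq_one_right e2]
      exact (inv_eq_of_mul_eq_one_right egf).symm
    have h2 : G * F * G * F * (G * F * G * F) = 1 := by
      simp only [mul_assoc] at h1 ⊢
      rw [← mul_assoc G, ← mul_assoc (G * F), ← mul_assoc (G * F * G)]
      simp only [mul_assoc]
      rw [show G * (F * (G * (F * (G * (F * (G * F)))))) = G * (F * (G * F)) * (G * (F * (G * F))) by
        group, h1, e2]
    calc F * (G * (F * (G * (F * (G * (F * G))))))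
        = G⁻¹ * (G * F * G * F * (G * F * G * F)) * G := by group
      _ = 1 := by rw [h2]; group
  have cd10 : C * D * (C * D) * (C * D) * (C * D) * (C * D) *
      (C * D * (C * D) * (C * D) * (C * D) * (C * D)) = 1 := by
    have h1 : D * C * (D * C) * (D * C) * (D * C) * (D * C) = A := by
      rw [← inv_eq_of_mul_eq_one_right a2]
      exact (inv_eq_of_mul_eq_one_right acd).symm
    calc C * D * (C * D) * (C * D) * (C * D) * (C * D) *
        (C * D * (C * D) * (C * D) * (C * D) * (C * D))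
        = C * ((D * C * (D * C) * (D * C) * (D * C) * (D * C)) *
          (D * C * (D * C) * (D * C) * (D * C) * (D * C))) * C⁻¹ := by group
      _ = 1 := by rw [h1, a2]; group
  intro w hw
  rw [rels'_eq] at hw
  simp only [List.mem_cons, List.not_mem_nil, or_false] at hw
  obtain rfl | rfl | rfl | rfl | rfl | rfl | rfl | rfl | rfl | rfl | rfl | rfl | rfl | rfl | rfl |
    rfl | rfl | rfl | rfl | rfl | rfl | rfl | rfl | rfl | rfl | rfl | rfl | rfl | rfl | rfl | rfl :=
    hw <;> simp only [ev_cons, ev_nil, mul_one, fl, List.getD_cons_zero, List.getD_cons_succ]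
  exacts [a2, by simpa only [mul_assoc] using ab, comm a2 c2 ac.symm, comm a2 d2 da,
    comm a2 e2 ea, comm a2 f2 fa, comm a2 g2 ga, b2, by simpa only [mul_assoc] using bc,
    comm b2 d2 db, comm b2 e2 eb, comm b2 f2 fb, comm b2 g2 gb, c2,
    by simpa only [mul_assoc] using cd10, comm c2 e2 ec, comm c2 f2 fc, comm c2 g2 gc, d2,
    by simpa only [mul_assoc] using de, by simpa only [mul_assoc] using df,
    by simpa only [mul_assoc] using dg, e2, comm e2 f2 ef, comm e2 g2 eg, f2, fg4, g2, egf, abc,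
    by simpa only [mul_assoc] using acd]

theorem central {hs : Cfsg.IsStemExtension σ} {z : Γ} (hz : z ∈ σ.ker) (x : Γ) :
    Commute x z := Subgroup.mem_center_iff.mp (hs.2.1 hz) x

/-- A lift of `g` for which the relator `e g f g f` holds. -/
theorem exists_G (hs : Cfsg.IsStemExtension σ) : ∃ G E F : Γ, σ G = Z ∧ G * G = 1 ∧ Hat G E ∧
    Hat G F ∧ σ E = fl Lg 4 ∧ σ F = fl Lg 5 ∧ E * (G * (F * (G * F))) = 1 := by
  obtain ⟨G, hG, hG2⟩ := exists_invol hs
  obtain ⟨tE, htE⟩ := hs.1 (ev Lg hE)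
  obtain ⟨tF, htF⟩ := hs.1 (ev Lg hF)
  obtain ⟨-, cE, cF, c1, c2⟩ := conj_checks
  have lift : ∀ {t G' : Γ} {h : List Nat} {l : Nat}, σ t = ev Lg h → σ G' = Z →
      sameW (cw h) [l] = true → σ (t * G' * t⁻¹) = fl Lg l := by
    intro t G' h l ht hg hc
    rw [map_mul, map_mul, map_inv, ht, hg, ← ev_cw, sameW_eq hc, ev_single]
  set E := tE * G * tE⁻¹ with hEdef
  set F := tF * G * tF⁻¹ with hFdef
  have sE : σ E = fl Lg 4 := lift htE hG cE
  have sF : σ F = fl Lg 5 := lift htF hG cF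
  have hfl6 : fl Lg 6 = Z := (ev_single 6).symm
  have hHF : Hat G F := ⟨tF, rfl⟩
  have hHE : Hat G E := ⟨tE, rfl⟩
  have hHX : Hat G (G * F * G) := by
    have := hHF.conj G; rwa [inv_eq_of_mul_eq_one_right hG2] at this
  -- the product of the two commuting lifts
  set P := G * F * G * F with hP
  have hP2 : P * P = 1 := by
    have hc : F * (G * F * G) = (G * F * G) * F := hHX.comm hs hG (by
      simp only [map_mul, hG, sF, ← hfl6]
      have := sameW_eq c1
      simp only [ev_cons, ev_nil, mul_one] at this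
      simpa only [mul_assoc] using this.symm)
    calc P * P = (G * F * G) * (F * (G * F * G)) * F := by rw [hP]; group
      _ = (G * F * G) * (G * F * G) * (F * F) := by rw [hc]; group
      _ = 1 := by rw [hHX.sq hG2, hHF.sq hG2, one_mul]
  have sP : σ P = fl Lg 4 := by
    rw [hP]
    simp only [map_mul, hG, sF, ← hfl6]
    have := sameW_eq c2
    simp only [ev_cons, ev_nil, mul_one] at this
    simpa only [mul_assoc] using this
  set z := E * P with hz
  have hzk : z ∈ σ.ker := by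
    rw [MonoidHom.mem_ker, hz, map_mul, sE, sP]
    exact sq_all 4
  have hz2 : z * z = 1 := by
    have hc : P * E = E * P := hHE.comm hs hG (by rw [sE, sP])
    calc z * z = E * (P * E) * P := by rw [hz]; group
      _ = (E * E) * (P * P) := by rw [hc]; group
      _ = 1 := by rw [hHE.sq hG2, hP2, one_mul]
  have hc := fun x => (central (hs := hs) hzk x).eq
  refine ⟨G * z, tE * (G * z) * tE⁻¹, tF * (G * z) * tF⁻¹, ?_, ?_, ⟨tE, rfl⟩, ⟨tF, rfl⟩,
    ?_, ?_, ?_⟩
  · rw [map_mul, MonoidHom.mem_ker.mp hzk, mul_one, hG]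
  · calc G * z * (G * z) = G * (z * G) * z := by group
      _ = (G * G) * (z * z) := by rw [← hc G]; group
      _ = 1 := by rw [hG2, hz2, one_mul]
  · exact lift htE (by rw [map_mul, MonoidHom.mem_ker.mp hzk, mul_one, hG]) cE
  · exact lift htF (by rw [map_mul, MonoidHom.mem_ker.mp hzk, mul_one, hG]) cF
  · have eE : tE * (G * z) * tE⁻¹ = z * E := by
      rw [hEdef, mul_assoc tE (G * z), mul_assoc G z, ← hc tE⁻¹]
      calc tE * (G * (tE⁻¹ * z)) = (tE * G * tE⁻¹) * z := by group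
        _ = z * (tE * G * tE⁻¹) := hc _
    have eF : tF * (G * z) * tF⁻¹ = z * F := by
      rw [hFdef, mul_assoc tF (G * z), mul_assoc G z, ← hc tF⁻¹]
      calc tF * (G * (tF⁻¹ * z)) = (tF * G * tF⁻¹) * z := by group
        _ = z * (tF * G * tF⁻¹) := hc _
    rw [eE, eF, hc G]
    have key : ∀ x y : Γ, x * (z * y) = z * (x * y) := fun x y => by
      rw [← mul_assoc, hc x, mul_assoc]
    simp only [mul_assoc, key]
    have : E * (G * (F * (G * F))) = z := by rw [hz, hP]; group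
    rw [this]
    calc z * (z * (z * (z * (z * z)))) = (z * z) * (z * z) * (z * z) := by group
      _ = 1 := by rw [hz2]; simp

/-- Lifts of the generators satisfying all relators but the last. -/
theorem exists_lifts (hs : Cfsg.IsStemExtension σ) {p : ℕ} (hp : p.Prime)
    (hcard : Nat.card σ.ker = p) : ∃ A B C D E F G : Γ,
      (σ A = fl Lg 0 ∧ σ B = fl Lg 1 ∧ σ C = fl Lg 2 ∧ σ D = fl Lg 3 ∧ σ E = fl Lg 4 ∧
        σ F = fl Lg 5 ∧ σ G = fl Lg 6) ∧
      (σ G = Z ∧ G * G = 1) ∧ (∀ w ∈ rels', ev [A, B, C, D, E, F, G] w = 1) := by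
  obtain ⟨G, E, F, hG, hG2, hHE, hHF, sE, sF, egf⟩ := exists_G hs
  have hfl6 : fl Lg 6 = Z := (ev_single 6).symm
  have hrel : ∀ w ∈ rels', ev Lg w = 1 := fun w hw => ev_rels w ((List.dropLast_subset rels) hw)
  have cen : ∀ {z : Γ}, z ∈ σ.ker → ∀ x, x * z = z * x := fun hz x => (central (hs := hs) hz x).eq
  obtain ⟨D, hHD, sD'⟩ := exists_hat hs hG hD
  have sD : σ D = fl Lg 3 := by rw [sD', sameW_eq conj_checks.1, ev_single]
  have hHG : Hat G G := ⟨1, by group⟩
  have d2 := hHD.sq hG2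
  have e2 := hHE.sq hG2
  obtain ⟨⟨bc1, bc2⟩, ⟨cc1, cc2⟩, ⟨abc1, abc2⟩, ⟨ca1, ca2⟩⟩ := dec_checks
  obtain ⟨XB, YB, -, -, -, -, sB0, b02⟩ := exists_dec hs hG hG2 bc1 bc2
  obtain ⟨XC, YC, hXC, hYC, sXC, sYC, sC0, c02⟩ := exists_dec hs hG hG2 cc1 cc2
  obtain ⟨XP, YP, -, -, -, -, sP, p2⟩ := exists_dec hs hG hG2 abc1 abc2
  set B0 := XB * YB
  set C0 := XC * YC
  rw [ev_single] at sB0 sC0
  -- the lift of `a`
  set W := D * C0 * (D * C0) * (D * C0) * (D * C0) * (D * C0) with hW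
  have sW : σ W = fl Lg 0 := by
    have h := hrel [0, 3, 2, 3, 2, 3, 2, 3, 2, 3, 2] (by rw [rels'_eq]; simp)
    simp only [ev_cons, ev_nil, mul_one] at h
    rw [hW]
    simp only [map_mul, sD, sC0, mul_assoc]
    exact (eq_inv_of_mul_eq_one_right h).trans (inv_eq_of_mul_eq_one_right (sq_all 0))
  have hcomm : ∀ {X Y : Γ} {i j : Nat}, Hat G X → σ X = fl Lg i → σ Y = fl Lg j →
      [j, i, j, i] ∈ rels' → Y * X = X * Y := by
    intro X Y i j hX hi hj hm
    refine hX.comm hs hG ?_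
    rw [hi, hj]
    have h := hrel _ hm
    simp only [ev_cons, ev_nil, mul_one] at h
    calc fl Lg j * fl Lg i = (fl Lg j * fl Lg i)⁻¹ := by
          refine eq_inv_of_mul_eq_one_left ?_
          simpa only [mul_assoc] using h
      _ = fl Lg i * fl Lg j := by
          rw [mul_inv_rev, inv_eq_of_mul_eq_one_right (sq_all i),
            inv_eq_of_mul_eq_one_right (sq_all j)]
  have hDW : W * D = D * W := hcomm hHD sD sW (by rw [rels'_eq]; simp)
  have hw2 : W * W = 1 := by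
    have hinv : D * W * D⁻¹ = W⁻¹ := by
      rw [hW, inv_eq_of_mul_eq_one_right d2]
      calc D * (D * C0 * (D * C0) * (D * C0) * (D * C0) * (D * C0)) * D
          = (D * D) * (C0 * D * (C0 * D) * (C0 * D) * (C0 * D) * (C0 * D)) := by group
        _ = C0⁻¹ * D⁻¹ * (C0⁻¹ * D⁻¹) * (C0⁻¹ * D⁻¹) * (C0⁻¹ * D⁻¹) * (C0⁻¹ * D⁻¹) := by
            rw [d2, one_mul, inv_eq_of_mul_eq_one_right c02, inv_eq_of_mul_eq_one_right d2]
        _ = (D * C0 * (D * C0) * (D * C0) * (D * C0) * (D * C0))⁻¹ := by group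
    rw [← hDW, mul_inv_cancel_right] at hinv
    nth_rewrite 1 [hinv]
    exact inv_mul_cancel W
  set A1 := W with hA1
  -- the lift of `b`
  set v := B0 * C0 * (B0 * C0) * (B0 * C0) with hv
  have hvk : v ∈ σ.ker := by
    have h := hrel [1, 2, 1, 2, 1, 2] (by rw [rels'_eq]; simp)
    simp only [ev_cons, ev_nil, mul_one] at h
    rw [MonoidHom.mem_ker, hv]
    simp only [map_mul, sB0, sC0, mul_assoc]
    exact h
  have hv2 : v * v = 1 := by
    have hinv : B0 * v * B0 = v⁻¹ := by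
      rw [hv]
      calc B0 * (B0 * C0 * (B0 * C0) * (B0 * C0)) * B0
          = (B0 * B0) * (C0 * B0 * (C0 * B0) * (C0 * B0)) := by group
        _ = C0⁻¹ * B0⁻¹ * (C0⁻¹ * B0⁻¹) * (C0⁻¹ * B0⁻¹) := by
            rw [b02, one_mul, inv_eq_of_mul_eq_one_right c02, inv_eq_of_mul_eq_one_right b02]
        _ = (B0 * C0 * (B0 * C0) * (B0 * C0))⁻¹ := by group
    rw [cen hvk B0, mul_assoc, b02, mul_one] at hinv
    nth_rewrite 1 [hinv]
    exact inv_mul_cancel v
  set B1 := v * B0 with hB1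
  have sB1 : σ B1 = fl Lg 1 := by rw [hB1, map_mul, MonoidHom.mem_ker.mp hvk, one_mul, sB0]
  have key : ∀ {z : Γ}, z ∈ σ.ker → ∀ x y : Γ, x * (z * y) = z * (x * y) := fun hz x y => by
    rw [← mul_assoc, cen hz x, mul_assoc]
  have b12 : B1 * B1 = 1 := by
    rw [hB1]
    simp only [mul_assoc, key hvk]
    rw [b02, mul_one, hv2]
  have bc1' : B1 * C0 * (B1 * C0) * (B1 * C0) = 1 := by
    rw [hB1]
    simp only [mul_assoc, key hvk]
    have : B0 * (C0 * (B0 * (C0 * (B0 * C0)))) = v := by rw [hv]; group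
    rw [this]
    calc v * (v * (v * v)) = (v * v) * (v * v) := by group
      _ = 1 := by rw [hv2, one_mul]
  -- commutation of `c` with lifts of `a`
  have hCA : ∀ {A : Γ}, σ A = fl Lg 0 → C0 * A = A * C0 := by
    intro A hA
    have h1 : A * XC = XC * A := hXC.comm hs hG (by
      rw [hA, sXC, ← ev_single 0]; exact (comm_words ca1).symm)
    have h2 : A * YC = YC * A := hYC.comm hs hG (by
      rw [hA, sYC, ← ev_single 0]; exact (comm_words ca2).symm)
    calc XC * YC * A = XC * (A * YC) := by rw [h2]; group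
      _ = (XC * A) * YC := by group
      _ = A * (XC * YC) := by rw [← h1]; group
  have hCA1 := hCA sW
  -- the relator `e (c b a) ^ 3`
  set P := C0 * B1 * A1 * (C0 * B1 * A1) * (C0 * B1 * A1) with hPdef
  have sP' : σ (E * P) = 1 := by
    have h := hrel [4, 2, 1, 0, 2, 1, 0, 2, 1, 0] (by rw [rels'_eq]; simp)
    simp only [ev_cons, ev_nil, mul_one] at h
    rw [hPdef]
    simp only [map_mul, sE, sC0, sB1, sW, mul_assoc]
    exact h
  set u := E * P with hu
  have huk : u ∈ σ.ker := MonoidHom.mem_ker.mpr sP'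
  have hu2 : u * u = 1 := by
    have hPe : P = E * u := by rw [hu, ← mul_assoc, e2, one_mul]
    have hk : C0 * A1 * P * (A1 * C0) = P⁻¹ := by
      have i1 := inv_eq_of_mul_eq_one_right c02
      have i2 := inv_eq_of_mul_eq_one_right hw2
      have i3 := inv_eq_of_mul_eq_one_right b12
      have ei : A1 * C0 = (C0 * A1)⁻¹ := by rw [mul_inv_rev, i1, i2]
      have e1 : C0 * A1 * (C0 * B1 * A1) * (A1 * C0) = A1 * B1 * C0 := by
        calc C0 * A1 * (C0 * B1 * A1) * (A1 * C0)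
            = (C0 * A1 * C0) * B1 * (A1 * A1) * C0 := by group
          _ = A1 * B1 * C0 := by rw [hCA1, mul_assoc A1, c02, mul_one, hw2, mul_one]
      calc C0 * A1 * P * (A1 * C0)
          = (C0 * A1 * (C0 * B1 * A1) * (A1 * C0)) * (C0 * A1 * (C0 * B1 * A1) * (A1 * C0)) *
              (C0 * A1 * (C0 * B1 * A1) * (A1 * C0)) := by rw [hPdef, ei]; group
        _ = (A1 * B1 * C0) * (A1 * B1 * C0) * (A1 * B1 * C0) := by rw [e1]
        _ = P⁻¹ := by
            rw [hPdef]
            simp only [mul_inv_rev, i1, i2, i3, mul_assoc]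
    have hE1 : A1 * E = E * A1 := hcomm hHE sE sW (by rw [rels'_eq]; simp)
    have hE2 : C0 * E = E * C0 := hcomm hHE sE sC0 (by rw [rels'_eq]; simp)
    have hfix : C0 * A1 * P * (A1 * C0) = P := by
      rw [hPe]
      calc C0 * A1 * (E * u) * (A1 * C0) = (C0 * (A1 * E)) * (u * (A1 * C0)) := by group
        _ = (C0 * E) * A1 * ((A1 * C0) * u) := by rw [hE1, ← cen huk (A1 * C0)]; group
        _ = E * (C0 * (A1 * A1) * C0) * u := by rw [hE2]; group
        _ = E * u := by rw [hw2, mul_one, c02, mul_one]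
    rw [hfix] at hk
    have hPP : P * P = 1 := by nth_rewrite 1 [hk]; exact inv_mul_cancel P
    rw [hPe] at hPP
    calc u * u = (E * E) * (u * u) := by rw [e2, one_mul]
      _ = E * u * (E * u) := by
          simp only [mul_assoc]
          rw [← mul_assoc u E u, ← cen huk E, mul_assoc E u u]
      _ = 1 := hPP
  set C := u * C0 with hC
  set B := u * B1 with hB
  set A := u * A1 with hA
  have sq : ∀ {x : Γ}, x * x = 1 → u * x * (u * x) = 1 := fun {x} h => by
    simp only [mul_assoc, key huk]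
    rw [h, mul_one, hu2]
  have sA : σ A = fl Lg 0 := by rw [hA, map_mul, MonoidHom.mem_ker.mp huk, one_mul, sW]
  have sB : σ B = fl Lg 1 := by rw [hB, map_mul, MonoidHom.mem_ker.mp huk, one_mul, sB1]
  have sC : σ C = fl Lg 2 := by rw [hC, map_mul, MonoidHom.mem_ker.mp huk, one_mul, sC0]
  have a2 : A * A = 1 := sq hw2
  have b2 : B * B = 1 := sq b12
  have u6 : ∀ x : Γ, u * (u * x) = x := fun x => by rw [← mul_assoc, hu2, one_mul]
  refine ⟨A, B, C, D, E, F, G, ⟨sA, sB, sC, sD, sE, sF, hG.trans hfl6.symm⟩, ⟨hG, hG2⟩, ?_⟩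
  have sG : σ G = fl Lg 6 := hG.trans hfl6.symm
  refine rels'_hold a2 b2 (sq c02) d2 e2 (hHF.sq hG2) hG2 ?_ ?_ ?_ ?_ ?_ ?_ ?_ ?_ ?_ ?_ egf ?_ ?_
  · -- `(a b) ^ 4`
    set Q := A * B * (A * B) with hQ
    have hq : Q * (XP * YP)⁻¹ ∈ σ.ker := by
      rw [MonoidHom.mem_ker, map_mul, map_inv, sP, hQ]
      simp only [map_mul, sA, sB, ev_cons, ev_nil, mul_one, mul_assoc]
      group
    set z := Q * (XP * YP)⁻¹ with hz
    have eQ : Q = z * (XP * YP) := by rw [hz, inv_mul_cancel_right]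
    have hQQ : Q * Q = z * z := by
      rw [eQ]
      calc z * (XP * YP) * (z * (XP * YP)) = z * ((XP * YP) * z) * (XP * YP) := by group
        _ = z * z * ((XP * YP) * (XP * YP)) := by rw [cen hq]; group
        _ = z * z := by rw [p2, mul_one]
    have hinv : A * (Q * Q) * A = (Q * Q)⁻¹ := by
      have i1 := inv_eq_of_mul_eq_one_right a2
      have i2 := inv_eq_of_mul_eq_one_right b2
      rw [hQ]
      simp only [mul_inv_rev, i1, i2, mul_assoc]
      rw [← mul_assoc A A, a2, one_mul]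
    rw [hQQ, cen (mul_mem hq hq) A, mul_assoc, a2, mul_one] at hinv
    have h4 : z ^ 4 = 1 := by
      calc z ^ 4 = (z * z) * (z * z) := by simp [pow_succ, mul_assoc]
        _ = 1 := by nth_rewrite 1 [hinv]; exact inv_mul_cancel _
    have hzz := sq_of_four hp hcard hq h4
    calc A * B * (A * B) * (A * B) * (A * B) = Q * Q := by rw [hQ]; group
      _ = 1 := hQQ.trans hzz
  · rw [hC, hA]
    simp only [mul_assoc, key huk, hCA1]
  · intro X hX Y hY
    simp only [List.mem_cons, List.not_mem_nil, or_false] at hX hY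
    obtain rfl | rfl | rfl | rfl := hX <;> obtain rfl | rfl := hY
    exacts [hcomm hHD sD sA (by rw [rels'_eq]; simp), hcomm hHD sD sB (by rw [rels'_eq]; simp),
      hcomm hHE sE sA (by rw [rels'_eq]; simp), hcomm hHE sE sB (by rw [rels'_eq]; simp),
      hcomm hHF sF sA (by rw [rels'_eq]; simp), hcomm hHF sF sB (by rw [rels'_eq]; simp),
      hcomm hHG sG sA (by rw [rels'_eq]; simp), hcomm hHG sG sB (by rw [rels'_eq]; simp)]
  · intro X hX
    simp only [List.mem_cons, List.not_mem_nil, or_false] at hX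
    obtain rfl | rfl | rfl := hX
    exacts [hcomm hHE sE sC (by rw [rels'_eq]; simp), hcomm hHF sF sC (by rw [rels'_eq]; simp),
      hcomm hHG sG sC (by rw [rels'_eq]; simp)]
  · exact hcomm hHF sF sE (by rw [rels'_eq]; simp)
  · exact hcomm hHG sG sE (by rw [rels'_eq]; simp)
  · rw [hB, hC]
    simp only [mul_assoc, key huk, u6]
    simpa only [mul_assoc] using bc1'
  all_goals (try refine Hat.braid hs hG hG2 (by assumption) (by assumption) ?_)
  · have h := hrel [3, 4, 3, 4, 3, 4] (by rw [rels'_eq]; simp)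
    simp only [ev_cons, ev_nil, mul_one] at h
    simp only [map_mul, sD, sE, mul_assoc]
    exact h
  · have h := hrel [3, 5, 3, 5, 3, 5] (by rw [rels'_eq]; simp)
    simp only [ev_cons, ev_nil, mul_one] at h
    simp only [map_mul, sD, sF, mul_assoc]
    exact h
  · have h := hrel [3, 6, 3, 6, 3, 6] (by rw [rels'_eq]; simp)
    simp only [ev_cons, ev_nil, mul_one] at h
    simp only [map_mul, sD, sG, mul_assoc]
    exact h
  · rw [hC, hB, hA]
    simp only [mul_assoc, key huk, u6]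
    have : E * (C0 * (B1 * (A1 * (C0 * (B1 * (A1 * (C0 * (B1 * A1)))))))) = u := by
      rw [hu, hPdef]; group
    rw [this, hu2]
  · rw [hA, hC]
    simp only [mul_assoc, key huk, u6]
    have : A1 * (D * (C0 * (D * (C0 * (D * (C0 * (D * (C0 * (D * C0))))))))) = A1 * A1 := by
      conv_rhs => arg 2; rw [hW]
      group
    rw [this, hw2]

end

end CfsgLib.Coset.He.Schur
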