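import Cfsg.Agent.Coset.He.Schur.Lifts
import Cfsg.Agent.Multiplier.Reduce

/-!
The Schur multiplier of `Cfsg.Spor.He` is trivial. The last relator is settled by a decomposition
(kernel of order two), by the subgroup on five generators (order three) and by the subgroup on six
generators (larger primes).
-/

set_option autoImplicit false
set_option maxRecDepth 100000
set_option Elab.async false

namespace CfsgLib.Coset.He.Schur

open CfsgLib.Coset Inv2B

theorem ud_checks : sameW (cw Ud1 ++ cw Ud2) (cw Ud2 ++ cw Ud1) = true ∧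
    sameW (cw Ud1 ++ cw Ud2) [2, 3, 5, 6, 2, 3, 5, 6] = true := by
  constructor <;> decide +kernel

/-- The last relator. -/
def last : List Nat := [2, 3, 5, 6, 2, 3, 5, 6, 2, 3, 5, 6, 2, 3, 5, 6]

theorem mem_rels {w : List Nat} (hw : w ∈ rels) : w ∈ rels' ∨ w = last := by
  rw [show rels = rels' ++ [last] from by decide +kernel] at hw
  simpa using hw

theorem sq_mem : ∀ l < 7, [l, l] ∈ rels' := by decide +kernel

/-- A lower bound for the order of the subgroup on six generators. -/
theorem card_T_ge : 80640 ≤ Nat.card (genBy Lg [0, 2, 3, 4, 5, 6]) := by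
  have := card_le.1
  set T := genBy Lg [0, 2, 3, 4, 5, 6]
  have hgens : ∀ ws : List (List Nat), (ws.all fun w => w.all fun l =>
      [0, 2, 3, 4, 5, 6].contains l) = true → ∀ w ∈ ws, ev Lg w ∈ T := by
    intro ws h w hmem
    simp only [List.all_eq_true, List.contains_iff_mem] at h
    exact ev_mem_genBy _ fun l hl => h w hmem l hl
  have h2 : 1 ≤ Nat.card (T ⊓ baseStab ρ [(52 : Fin 2058), 195] : Subgroup Cfsg.Spor.He) :=
    Nat.card_pos
  have h1 := orbit_step_in matches_ρ T (base := [(52 : Fin 2058)]) (β := 195) (m := 96) (dm := 7)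
    (gens := T1G) (P := T1P) (Inv := T1Inv)
    (by decide +kernel) (by decide +kernel) (by decide +kernel) (hgens _ (by decide +kernel)) h2
  have h0 := orbit_step_in matches_ρ T (base := []) (β := 52) (m := 840) (dm := 10)
    (gens := T0G) (P := T0P) (Inv := T0Inv)
    (by decide +kernel) (by decide +kernel) (by decide +kernel) (hgens _ (by decide +kernel)) h1
  simpa [baseStab] using h0

/-- A lower bound for the order of the subgroup on five generators. -/
theorem card_A_ge : 15120 ≤ Nat.card (genBy Lg [0, 1, 2, 3, 4]) := by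
  have := card_le.1
  set T := genBy Lg [0, 1, 2, 3, 4]
  have hgens : ∀ ws : List (List Nat), (ws.all fun w => w.all fun l =>
      [0, 1, 2, 3, 4].contains l) = true → ∀ w ∈ ws, ev Lg w ∈ T := by
    intro ws h w hmem
    simp only [List.all_eq_true, List.contains_iff_mem] at h
    exact ev_mem_genBy _ fun l hl => h w hmem l hl
  have h2 : 1 ≤ Nat.card (T ⊓ baseStab ρ [(46 : Fin 2058), 18] : Subgroup Cfsg.Spor.He) :=
    Nat.card_pos
  have h1 := orbit_step_in matches_ρ T (base := [(46 : Fin 2058)]) (β := 18) (m := 20) (dm := 5)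
    (gens := Orb.A1G) (P := Orb.A1P) (Inv := Orb.A1Inv)
    (by decide +kernel) (by decide +kernel) (by decide +kernel) (hgens _ (by decide +kernel)) h2
  have h0 := orbit_step_in matches_ρ T (base := []) (β := 46) (m := 756) (dm := 10)
    (gens := Orb.A0G) (P := Orb.A0P) (Inv := Orb.A0Inv)
    (by decide +kernel) (by decide +kernel) (by decide +kernel) (hgens _ (by decide +kernel)) h1
  simpa [baseStab] using h0

section

variable {Γ : Type} [Group Γ] {σ : Γ →* Cfsg.Spor.He}

/-- Lifts of the generators satisfying all relators but the last. -/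
structure IsLifts (σ : Γ →* Cfsg.Spor.He) (L : List Γ) : Prop where
  len : L.length = 7
  map : L.map σ = Lg
  rel : ∀ w ∈ rels', ev L w = 1

theorem exists_isLifts (hs : Cfsg.IsStemExtension σ) {p : ℕ} (hp : p.Prime)
    (hcard : Nat.card σ.ker = p) :
    ∃ L, IsLifts σ L ∧ ∃ G, σ G = Z ∧ G * G = 1 := by
  obtain ⟨A, B, C, D, E, F, G, ⟨sA, sB, sC, sD, sE, sF, sG⟩, hG, h⟩ := exists_lifts hs hp hcard
  refine ⟨[A, B, C, D, E, F, G], ⟨rfl, ?_, h⟩, G, hG.1, hG.2⟩
  refine List.ext_getElem (by simp [len_Lg]) fun i h1 h2 => ?_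
  rw [List.getElem_map, ← List.getD_eq_getElem Lg 1 h2]
  simp only [List.length_map, List.length_cons, List.length_nil] at h1
  interval_cases i <;> assumption

variable {L : List Γ}

theorem IsLifts.map_ev (hL : IsLifts σ L) : ∀ w : List Nat, σ (ev L w) = ev Lg w
  | [] => by simp
  | l :: w => by
    rw [ev_cons, ev_cons, map_mul, hL.map_ev w]
    congr 1
    have hm : fl Lg l = (L.map σ).getD l 1 := by rw [hL.map]; rfl
    rw [hm, fl, ← map_one σ, List.getD_map]

theorem IsLifts.sq (hL : IsLifts σ L) (x : Nat) : fl L x * fl L x = 1 := by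
  rcases lt_or_ge x 7 with h | h
  · simpa using hL.rel _ (sq_mem x h)
  · rw [fl, List.getD_eq_default _ _ (hL.len ▸ h), mul_one]

theorem IsLifts.level (hL : IsLifts σ L) (n₀ : Nat)
    {S S' : List Nat} {rs subs : List (List Nat)} {E Rep Tb : Nat → Nat}
    {R : Tr (List Nat × Nat)} {d d' N nC dn dk : Nat} {C Ref : Nat → Nat} (k : Nat)
    (hk : S.length = k)
    (hc : checkLevel rels' 7 S S' rs subs = true)
    (hR : checkRules rs subs R = true) (hd : checkDefs E k d' N = true)
    (hs : checkChunks E id R k d N nC C = true)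
    (ht : checkTable E id (N + chunk * nC) n₀ k dn dk Rep Ref Tb = true) :
    TableOK (lv L S) (genBy L S') E id n₀ Rep Tb := by
  have hl : (lv L S).length = k := by simp [lv, hk]
  exact tableOK_of_check (inv_lv hL.sq S) hR (hl.symm ▸ hd) (hl.symm ▸ hs) (hl.symm ▸ ht)
    (level_rels hL.len hc hL.rel) (level_subs hL.len hc)

theorem IsLifts.card_A (hL : IsLifts σ L) :
    Finite (genBy L [0, 1, 2, 3, 4]) ∧ Nat.card (genBy L [0, 1, 2, 3, 4]) ≤ 15120 := by
  have c0 : checkLevel rels' 7 [2, 3] [] T3.lrels T3.subs = true := by decide +kernel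
  have h0 := level_card (hL.level 20 2 rfl c0 T3.hR T3.hdefs T3.hsteps T3.htable) (by decide) c0
    card_genBy_nil
  have c : checkLevel rels' 7 [0, 1, 2, 3, 4] [2, 3] A.lrels A.subs = true := by decide +kernel
  exact level_card (hL.level 756 5 rfl c A.hR A.hdefs A.hsteps A.htable) (by decide) c h0

theorem IsLifts.map_genBy (hL : IsLifts σ L) (S : List Nat) :
    (genBy L S).map σ = genBy Lg S := by
  have e : ∀ l, σ (fl L l) = fl Lg l := fun l => by
    have := hL.map_ev [l]
    simpa using this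
  refine le_antisymm ?_ ((Subgroup.closure_le _).mpr fun x hx => ?_)
  · rw [Subgroup.map_le_iff_le_comap, genBy, Subgroup.closure_le]
    intro x hx
    obtain ⟨l, hl, rfl⟩ := List.mem_map.mp (show x ∈ lv L S from hx)
    exact Subgroup.subset_closure (show σ (fl L l) ∈ lv Lg S from
      List.mem_map.mpr ⟨l, hl, (e l).symm⟩)
  · obtain ⟨l, hl, rfl⟩ := List.mem_map.mp (show x ∈ lv Lg S from hx)
    exact ⟨fl L l, Subgroup.subset_closure (List.mem_map.mpr ⟨l, hl, rfl⟩), e l⟩

theorem even_last : ∀ l < 7, List.count l last % 2 = 0 := by decide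

/-- When all relators hold the extension splits. -/
theorem ker_eq_bot (hs : Cfsg.IsStemExtension σ) (hL : IsLifts σ L) (hl : ev L last = 1) :
    σ.ker = ⊥ := by
  have hr : ∀ w ∈ pres.rels, ev L w = 1 := by
    rw [rels_eq]
    intro w hw
    rcases mem_rels hw with h | rfl
    · exact hL.rel w h
    · exact hl
  let s : Cfsg.Spor.He →* Γ := pres.hom pres_ok hr
  have hsec : ∀ x, σ (s x) = x := by
    intro x
    have hx : x ∈ Subgroup.closure {y | y ∈ Lg} := closure_Lg ▸ Subgroup.mem_top x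
    induction hx using Subgroup.closure_induction with
    | mem y hy =>
      obtain ⟨l, hl7, rfl⟩ := List.getElem_of_mem hy
      obtain ⟨a, ha⟩ := hix l (len_Lg ▸ hl7)
      subst ha
      have e1 : s (fl Lg (ix a)) = fl L (ix a) := pres.hom_fl pres_ok hr a
      rw [← List.getD_eq_getElem Lg 1 hl7]
      show σ (s (fl Lg (ix a))) = fl Lg (ix a)
      rw [e1]
      simpa using hL.map_ev [ix a]
    | one => simp
    | mul a b _ _ ha hb => rw [map_mul, map_mul, ha, hb]
    | inv a _ ha => rw [map_inv, map_inv, ha]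
  refine CfsgLib.Multiplier.ker_eq_bot_of_complement σ hs s.range ?_ ?_
  · rw [eq_bot_iff]
    rintro y ⟨⟨x, rfl⟩, hy⟩
    rw [Subgroup.mem_bot]
    have : x = 1 := (hsec x).symm.trans (MonoidHom.mem_ker.mp hy)
    rw [this, map_one]
  · refine eq_top_iff.mpr fun y _ => ?_
    have hy : (s (σ y))⁻¹ * y ∈ σ.ker := by
      rw [MonoidHom.mem_ker, map_mul, map_inv, hsec, inv_mul_cancel]
    rw [show y = s (σ y) * ((s (σ y))⁻¹ * y) by group]
    exact Subgroup.mul_mem_sup ⟨σ y, rfl⟩ hy

/-- The last relator, kernel of order two. -/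
theorem last_two (hs : Cfsg.IsStemExtension σ) (hL : IsLifts σ L) {G : Γ} (hG : σ G = Z)
    (hG2 : G * G = 1) (hcard : Nat.card σ.ker = 2) : ev L last = 1 := by
  obtain ⟨X, Y, -, -, -, -, sXY, hXY⟩ := exists_dec hs hG hG2 ud_checks.1 ud_checks.2
  set U := ev L [2, 3, 5, 6, 2, 3, 5, 6] with hU
  have hz : U * (X * Y)⁻¹ ∈ σ.ker := by
    rw [MonoidHom.mem_ker, map_mul, map_inv, sXY, hU, hL.map_ev, mul_inv_cancel]
  set z := U * (X * Y)⁻¹ with hzdef
  have hzz : z * z = 1 := by
    have h : (⟨z, hz⟩ : σ.ker) ^ Nat.card σ.ker = 1 := pow_card_eq_one'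
    rw [hcard, pow_two] at h
    exact congrArg Subtype.val h
  have eU : U = z * (X * Y) := by rw [hzdef, inv_mul_cancel_right]
  rw [show last = [2, 3, 5, 6, 2, 3, 5, 6] ++ [2, 3, 5, 6, 2, 3, 5, 6] from rfl, ev_append, ← hU, eU]
  calc z * (X * Y) * (z * (X * Y)) = z * ((X * Y) * z) * (X * Y) := by group
    _ = z * z * ((X * Y) * (X * Y)) := by
        rw [Subgroup.mem_center_iff.mp (hs.2.1 hz)]; group
    _ = 1 := by rw [hzz, hXY, one_mul]

/-- The last relator, kernel of order five or seven. -/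
theorem last_large [Finite Γ] (hs : Cfsg.IsStemExtension σ) (hL : IsLifts σ L) {p : ℕ}
    (hp : p.Prime) (hcard : Nat.card σ.ker = p) (h2 : ¬ p ^ 2 ∣ 80640) : ev L last = 1 := by
  set v := ev L last with hv
  by_contra hne
  have hvk : v ∈ σ.ker := by
    rw [MonoidHom.mem_ker, hv, hL.map_ev]
    exact ev_rels last (by decide +kernel)
  set T := genBy L [0, 2, 3, 4, 5, 6]
  have hvT : v ∈ T := ev_mem_genBy _ (by decide)
  have hz : Subgroup.zpowers v = σ.ker := by
    have hle : Subgroup.zpowers v ≤ σ.ker := Subgroup.zpowers_le.mpr hvk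
    refine Subgroup.eq_of_le_of_card_ge hle ?_
    rcases (Nat.dvd_prime hp).mp (hcard ▸ Subgroup.card_dvd_of_le hle) with h | h
    · rw [Nat.card_zpowers, orderOf_eq_one_iff] at h
      exact absurd h hne
    · rw [h, hcard]
  have hkT : σ.ker ≤ T := hz ▸ Subgroup.zpowers_le.mpr hvT
  let τ : T →* (T.map σ : Subgroup Cfsg.Spor.He) := σ.subgroupMap T
  have hτk : ∀ x : T, x ∈ τ.ker ↔ (x : Γ) ∈ σ.ker := fun x => by
    rw [MonoidHom.mem_ker, MonoidHom.mem_ker]
    exact ⟨fun h => congrArg Subtype.val h, fun h => Subtype.ext h⟩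
  have hcomm : (⟨v, hvT⟩ : T) ∈ commutator T := by
    have hmem : ∀ l, l ∈ [2, 3, 5, 6] → fl L l ∈ T := fun l hl => by
      have := ev_mem_genBy (L := L) [0, 2, 3, 4, 5, 6] (w := [l]) (by
        intro x hx
        rw [List.mem_singleton.mp hx]
        exact (by decide : ∀ l ∈ [2, 3, 5, 6], l ∈ [0, 2, 3, 4, 5, 6]) l hl)
      simpa using this
    let c : T := ⟨fl L 2, hmem 2 (by decide)⟩
    let d : T := ⟨fl L 3, hmem 3 (by decide)⟩
    let f : T := ⟨fl L 5, hmem 5 (by decide)⟩
    let g : T := ⟨fl L 6, hmem 6 (by decide)⟩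
    have e : (⟨v, hvT⟩ : T) = (c * d * f * g) * (c * d * f * g) *
        ((c * d * f * g) * (c * d * f * g)) := Subtype.ext (by
      show v = _
      rw [hv, last]
      simp [c, d, f, g, mul_assoc])
    refine (QuotientGroup.eq_one_iff _).mp ?_
    show Abelianization.of (⟨v, hvT⟩ : T) = 1
    have sq : ∀ (l : Nat) (h : fl L l ∈ T),
        Abelianization.of (⟨_, h⟩ : T) * Abelianization.of (⟨_, h⟩ : T) = 1 := fun l h => by
      rw [← map_mul, show (⟨_, h⟩ : T) * ⟨_, h⟩ = 1 from Subtype.ext (hL.sq l), map_one]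
    rw [e]
    simp only [map_mul]
    rw [mul_mul_mul_comm (Abelianization.of c * Abelianization.of d * Abelianization.of f),
      mul_mul_mul_comm (Abelianization.of c * Abelianization.of d),
      mul_mul_mul_comm (Abelianization.of c), sq, sq, sq, sq]
    simp
  have hkc : τ.ker ≤ commutator T := by
    intro x hx
    obtain ⟨i, hi⟩ := Subgroup.mem_zpowers_iff.mp (hz.symm ▸ (hτk x).mp hx)
    rw [show x = (⟨v, hvT⟩ : T) ^ i from Subtype.ext (by simpa using hi.symm)]
    exact zpow_mem hcomm i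
  have hkz : τ.ker ≤ Subgroup.center T := fun x hx => Subgroup.mem_center_iff.mpr fun y =>
    Subtype.ext (Subgroup.mem_center_iff.mp (hs.2.1 ((hτk x).mp hx)) y)
  have h := CfsgLib.Schur.exponent_sq_dvd_index τ.ker hkz hkc
  have hpk : Nat.card τ.ker = p := by
    rw [← hcard]
    exact Nat.card_congr
      { toFun := fun x => ⟨((x : T) : Γ), (hτk x).mp x.2⟩
        invFun := fun x => ⟨⟨x, hkT x.2⟩, (hτk _).mpr x.2⟩
        left_inv := fun _ => rfl
        right_inv := fun _ => rfl }
  have : Fact p.Prime := ⟨hp⟩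
  have : IsCyclic τ.ker := isCyclic_of_prime_card hpk
  rw [IsCyclic.exponent_eq_card, hpk, Subgroup.index_ker,
    MonoidHom.range_eq_top.mpr (σ.subgroupMap_surjective T), Subgroup.card_top,
    hL.map_genBy] at h
  have hc : Nat.card (genBy Lg [0, 2, 3, 4, 5, 6]) = 80640 :=
    le_antisymm (card_acdefg.2.trans (by norm_num)) card_T_ge
  exact h2 (hc ▸ h)

/-- A partial complement, kernel of order three. -/
theorem partial_three (hs : Cfsg.IsStemExtension σ) (hL : IsLifts σ L) :
    ∃ H : Subgroup Γ, H ⊓ σ.ker = ⊥ ∧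
      ∀ d, d * Nat.card H = Nat.card Cfsg.Spor.He → ¬ 3 ∣ d := by
  set H := genBy L [0, 1, 2, 3, 4]
  obtain ⟨hf, hle⟩ := hL.card_A
  have hsurj : Function.Surjective (σ.subgroupMap H) := σ.subgroupMap_surjective H
  have h1 := Nat.card_le_card_of_surjective _ hsurj
  rw [hL.map_genBy] at h1
  have hge := card_A_ge
  have hcH : Nat.card H = 15120 := le_antisymm hle (hge.trans h1)
  have hbij : Function.Injective (σ.subgroupMap H) := by
    have : Finite H := hf
    have := Fintype.ofFinite H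
    refine ((Nat.bijective_iff_surjective_and_card _).mpr ⟨hsurj, ?_⟩).1
    rw [hL.map_genBy]
    omega
  refine ⟨H, ?_, fun d hd => ?_⟩
  · rw [eq_bot_iff]
    rintro x ⟨hxH, hxk⟩
    rw [Subgroup.mem_bot]
    exact congrArg Subtype.val (hbij (a₁ := ⟨x, hxH⟩) (a₂ := 1)
      (Subtype.ext (by simpa using MonoidHom.mem_ker.mp hxk)))
  · rw [hcH, card_and_injective.1] at hd
    omega

end

theorem noStem (p : ℕ) (hp : p.Prime) : CfsgLib.Multiplier.NoStem Cfsg.Spor.He p := by
  have := card_le.1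
  by_cases h : p ^ 2 ∣ Nat.card Cfsg.Spor.He
  swap
  · exact CfsgLib.Multiplier.noStem_of_not_sq_dvd _ hp h
  rw [card_and_injective.1] at h
  have hmem : p = 2 ∨ p = 3 ∨ p = 5 ∨ p = 7 := by
    have h1 : p ∣ 2 ^ 10 * (3 ^ 3 * (5 ^ 2 * (7 ^ 3 * 17))) :=
      (dvd_pow_self p two_ne_zero).trans (h.trans (by norm_num))
    have hq : ∀ {q k : ℕ}, q.Prime → p ∣ q ^ k → p = q := fun hq hd =>
      (Nat.prime_dvd_prime_iff_eq hp hq).mp (hp.dvd_of_dvd_pow hd)
    rcases hp.dvd_mul.mp h1 with h1 | h1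
    · exact Or.inl (hq Nat.prime_two h1)
    rcases hp.dvd_mul.mp h1 with h1 | h1
    · exact Or.inr (Or.inl (hq Nat.prime_three h1))
    rcases hp.dvd_mul.mp h1 with h1 | h1
    · exact Or.inr (Or.inr (Or.inl (hq (by norm_num) h1)))
    rcases hp.dvd_mul.mp h1 with h1 | h1
    · exact Or.inr (Or.inr (Or.inr (hq (by norm_num) h1)))
    · obtain rfl := (Nat.prime_dvd_prime_iff_eq hp (by norm_num)).mp h1
      norm_num at h
  by_cases h3 : p = 3
  · subst h3
    refine CfsgLib.Multiplier.noStem_of_partial _ hp fun Γ _ _ σ hσ hcard => ?_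
    obtain ⟨L, hL, -⟩ := exists_isLifts hσ hp hcard
    exact partial_three hσ hL
  intro Γ _ _ σ hσ hcard
  obtain ⟨L, hL, G, hG, hG2⟩ := exists_isLifts hσ hp hcard
  have hl : ev L last = 1 := by
    rcases hmem with rfl | rfl | rfl | rfl
    · exact last_two hσ hL hG hG2 hcard
    · exact absurd rfl h3
    · exact last_large hσ hL hp hcard (by norm_num)
    · exact last_large hσ hL hp hcard (by norm_num)
  rw [ker_eq_bot hσ hL hl, Subgroup.card_bot] at hcard
  exact hp.ne_one hcard.symm

theorem multiplier : Cfsg.HasCyclicSchurMultiplier Cfsg.Spor.He 1 := by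
  have := card_le.1
  exact CfsgLib.Multiplier.hasTrivial_of_noStem _ noStem

end CfsgLib.Coset.He.Schur
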